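import Mathlib
import Cfsg.Agent.Lib.Components.GenFitting
import Cfsg.Agent.Lib.Core.Fitting
import Cfsg.Agent.Lib.Coprime.Sylow

/-!
Further elementary facts on the layer and the generalized Fitting subgroup: subnormal subgroups of `F*`,
intersections with subnormal subgroups, the derived series of `F*`, and action on the layer.
-/

set_option autoImplicit false

namespace Cfsg.Agent.Lib.FStar

open Cfsg Subgroup
open scoped commutatorElement

variable {G : Type*} [Group G]

/-- `Z(E(G)) = F(G) ∩ E(G)`. -/
theorem center_layer_eq_inf [Finite G] :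
    (Subgroup.center ↥(layer G)).map (layer G).subtype = fittingSubgroup G ⊓ layer G := by
  haveI := Components.layer_normal (G := G)
  refine le_antisymm (le_inf (Components.le_fittingSubgroup inferInstance ?_) (map_subtype_le _)) ?_
  · haveI : Group.IsNilpotent ↥(Subgroup.center ↥(layer G)) := by
      open scoped IsMulCommutative in exact CommGroup.isNilpotent
    exact Group.nilpotent_of_mulEquiv
      (Subgroup.equivMapOfInjective _ _ (layer G).subtype_injective)
  · exact Components.le_center_map_of_le_of_le_centralizer inf_le_right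
      (inf_le_left.trans (le_centralizer_iff.1 Components.layer_le_centralizer_fittingSubgroup))

/-- `F(S) = F(G) ∩ S` for subnormal `S`. -/
theorem map_fittingSubgroup_of_subnormal [Finite G] {S : Subgroup G} (hS : S.IsSubnormal) :
    (fittingSubgroup ↥S).map S.subtype = fittingSubgroup G ⊓ S := by
  refine le_antisymm (le_inf (Fitting.map_subtype_fittingSubgroup_le hS) (map_subtype_le _)) ?_
  haveI := Components.fittingSubgroup_normal (G := G)
  haveI := Fitting.isNilpotent_fittingSubgroup (G := G)
  have hn : ((fittingSubgroup G).subgroupOf S).Normal := inferInstance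
  have hnil : Group.IsNilpotent ↥((fittingSubgroup G).subgroupOf S) := by
    rw [← Subgroup.inf_subgroupOf_right]
    haveI := Fitting.isNilpotent_of_le_fittingSubgroup
      (inf_le_left : fittingSubgroup G ⊓ S ≤ fittingSubgroup G)
    exact Group.nilpotent_of_mulEquiv (Subgroup.subgroupOfEquivOfLe inf_le_right).symm
  have h := Components.le_fittingSubgroup hn hnil
  rintro x ⟨hx, hxS⟩
  exact ⟨⟨x, hxS⟩, h hx, rfl⟩

/-- The layer of a subnormal subgroup, inside `G`, contains every component lying in it. -/
theorem component_le_map_layer {S L : Subgroup G} (hL : IsComponent L) (h : L ≤ S) :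
    L ≤ (layer ↥S).map S.subtype := by
  rw [← map_subgroupOf_eq_of_le h]
  exact map_mono (Components.isComponent_le_layer (Components.isComponent_subgroupOf hL h))

/-- A subnormal subgroup of `F*(G)` is the product of its layer and `F(G) ∩ S`. -/
theorem le_layer_sup_fitting [Finite G] {S : Subgroup G} (hS : S.IsSubnormal)
    (hle : S ≤ generalizedFittingSubgroup G) :
    S ≤ (layer ↥S).map S.subtype ⊔ (fittingSubgroup G ⊓ S) := by
  classical
  haveI := Components.fittingSubgroup_normal (G := G)
  set E₁ := (layer ↥S).map S.subtype with hE₁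
  set T : Subgroup G := sSup {L : Subgroup G | IsComponent L ∧ ¬ L ≤ S} with hT
  have hTS : T ≤ centralizer (S : Set G) :=
    sSup_le fun L hL => Components.isComponent_le_centralizer_of_not_le hL.1 hS hL.2
  have hE₁S : E₁ ≤ S := map_subtype_le _
  have hTlayer : T ≤ layer G := sSup_le fun L hL => Components.isComponent_le_layer hL.1
  have hlayer : layer G ≤ E₁ ⊔ T := Components.layer_le_iff.2 fun L hL => by
    by_cases h : L ≤ S
    · exact (component_le_map_layer hL h).trans le_sup_left
    · exact (le_sSup (a := L) (s := {L : Subgroup G | IsComponent L ∧ ¬ L ≤ S}) ⟨hL, h⟩).trans le_sup_right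
  have hFT : T ≤ centralizer (fittingSubgroup G : Set G) :=
    hTlayer.trans Components.layer_le_centralizer_fittingSubgroup
  intro s hs
  have h1 : s ∈ ((E₁ ⊔ T ⊔ fittingSubgroup G : Subgroup G) : Set G) :=
    sup_le_sup_right hlayer _ (hle hs)
  rw [Subgroup.mul_normal] at h1
  obtain ⟨et, het, f, hf, rfl⟩ := Set.mem_mul.1 h1
  have hE₁T : E₁ ≤ normalizer (T : Set G) :=
    (le_centralizer_iff.1 (hTS.trans (centralizer_le hE₁S))).trans
      (centralizer_le_normalizer _)
  rw [coe_mul_of_left_le_normalizer_right E₁ T hE₁T] at het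
  obtain ⟨e, he, u, hu, rfl⟩ := Set.mem_mul.1 het
  -- `u * f` lies in `S`, so `u` is central in `T`
  have huf : u * f ∈ S := by
    have := mul_mem (inv_mem (hE₁S he)) hs
    simpa [mul_assoc] using this
  have huT : ∀ y ∈ T, y * u = u * y := by
    intro y hy
    have h2 := mem_centralizer_iff.1 (hTS hy) _ huf
    have h3 := mem_centralizer_iff.1 (hFT hy) f hf
    refine mul_right_cancel (b := f) ?_
    calc y * u * f = y * (u * f) := mul_assoc _ _ _
      _ = (u * f) * y := h2.symm
      _ = u * y * f := by rw [mul_assoc, h3, ← mul_assoc]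
  have hlayerS : layer G ≤ centralizer ({u} : Set G) := by
    refine hlayer.trans (sup_le (fun y hy => ?_) (fun y hy => ?_))
    · exact mem_centralizer_singleton_iff.2 (mem_centralizer_iff.1 (hTS hu) y (hE₁S hy))
    · exact mem_centralizer_singleton_iff.2 (huT y hy)
  have huF : u ∈ fittingSubgroup G := by
    have : u ∈ (Subgroup.center ↥(layer G)).map (layer G).subtype :=
      ⟨⟨u, hTlayer hu⟩, mem_center_iff.2 fun y =>
        Subtype.ext (mem_centralizer_singleton_iff.1 (hlayerS y.2)), rfl⟩
    rw [center_layer_eq_inf] at this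
    exact this.1
  rw [mul_assoc]
  exact mul_mem (mem_sup_left he) (mem_sup_right ⟨mul_mem huF hf, huf⟩)

/-- A subnormal subgroup of `F*(G)` is its own generalized Fitting subgroup. -/
theorem fitting_sup_layer_eq_top [Finite G] {S : Subgroup G} (hS : S.IsSubnormal)
    (hle : S ≤ generalizedFittingSubgroup G) : fittingSubgroup ↥S ⊔ layer ↥S = ⊤ := by
  apply Subgroup.map_injective S.subtype_injective
  rw [Subgroup.map_sup, map_fittingSubgroup_of_subnormal hS, ← MonoidHom.range_eq_map,
    range_subtype, sup_comm]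
  exact le_antisymm (sup_le (map_subtype_le _) inf_le_right) (le_layer_sup_fitting hS hle)

/-- `F*(B) = F*(G) ∩ B` for subnormal `B`. -/
theorem map_generalizedFittingSubgroup_of_subnormal [Finite G] {B : Subgroup G}
    (hB : B.IsSubnormal) :
    (generalizedFittingSubgroup ↥B).map B.subtype = generalizedFittingSubgroup G ⊓ B := by
  show (layer ↥B ⊔ fittingSubgroup ↥B).map B.subtype = _
  rw [Subgroup.map_sup, map_fittingSubgroup_of_subnormal hB]
  refine le_antisymm ?_ ?_
  · exact le_inf (sup_le_sup (Components.map_layer_le_layer hB) inf_le_left)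
      (sup_le (map_subtype_le _) inf_le_right)
  · haveI := Components.generalizedFittingSubgroup_normal (G := G)
    set S := generalizedFittingSubgroup G ⊓ B with hSdef
    have hS : S.IsSubnormal := by
      refine Subgroup.IsSubnormal.step S B inf_le_right hB ?_
      rw [hSdef, inf_subgroupOf_right]
      infer_instance
    refine (le_layer_sup_fitting hS inf_le_left).trans (sup_le_sup ?_ (inf_le_inf_left _ inf_le_right))
    refine map_le_iff_le_comap.2 (Components.layer_le_iff.2 fun K hK => map_le_iff_le_comap.1 ?_)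
    exact component_le_map_layer ((Components.isComponent_map_subtype_iff hS K).2 hK)
      ((map_subtype_le _).trans inf_le_right)

/-- A subnormal subgroup equal to its own layer lies in `E(G)`, normally. -/
theorem le_layer_of_layer_eq_top [Finite G] {A : Subgroup G} (hA : A.IsSubnormal)
    (h : layer ↥A = ⊤) : A ≤ layer G ∧ layer G ≤ normalizer (A : Set G) := by
  have hAeq : (layer ↥A).map A.subtype = A := by
    rw [h, ← MonoidHom.range_eq_map, range_subtype]
  refine ⟨hAeq ▸ Components.map_layer_le_layer hA, fun e he => ?_⟩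
  have key : ∀ e ∈ layer G, A.map (MulAut.conj e).toMonoidHom ≤ A := by
    intro e he
    nth_rw 1 [← hAeq]
    rw [map_map, map_le_iff_le_comap, Components.layer_le_iff]
    intro K hK
    rw [← map_le_iff_le_comap, ← map_map]
    have hKG := (Components.isComponent_map_subtype_iff hA K).2 hK
    rintro _ ⟨x, hx, rfl⟩
    exact map_subtype_le K ((mem_normalizer_iff.1
      (Components.layer_le_normalizer_component hKG he) x).1 hx)
  rw [mem_normalizer_iff]
  intro x
  refine ⟨fun hx => key e he ⟨x, hx, rfl⟩, fun hx => ?_⟩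
  have := key e⁻¹ (inv_mem he) ⟨_, hx, rfl⟩
  simpa [mul_assoc] using this

/-- The derived series of `F*(G)` terminates in `E(G)`. -/
theorem exists_derivedSeries_fstar_le_layer [Finite G] :
    ∃ n : ℕ, (derivedSeries ↥(generalizedFittingSubgroup G) n).map
      (generalizedFittingSubgroup G).subtype ≤ layer G := by
  haveI := Components.layer_normal (G := G)
  haveI := Components.fittingSubgroup_isSolvable (G := G)
  let f : ↥(generalizedFittingSubgroup G) →* G ⧸ layer G :=
    (QuotientGroup.mk' (layer G)).comp (generalizedFittingSubgroup G).subtype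
  have hrange : f.range = ((QuotientGroup.mk' (layer G)).comp (fittingSubgroup G).subtype).range := by
    rw [MonoidHom.range_comp, MonoidHom.range_comp, range_subtype, range_subtype]
    show (layer G ⊔ fittingSubgroup G).map _ = _
    rw [Subgroup.map_sup, QuotientGroup.map_mk'_self, bot_sup_eq]
  have hsol : Group.IsSolvable ↥f.range := by
    rw [hrange]
    exact Group.isSolvable_of_surjective (MonoidHom.rangeRestrict_surjective _)
  obtain ⟨n, hn⟩ := hsol
  refine ⟨n, ?_⟩
  rintro _ ⟨x, hx, rfl⟩
  have h1 : f.rangeRestrict x = 1 := by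
    have := map_derivedSeries_le_derivedSeries f.rangeRestrict n ⟨x, hx, rfl⟩
    rwa [hn, mem_bot] at this
  exact (QuotientGroup.eq_one_iff (x : G)).1 (congrArg Subtype.val h1)

theorem iInf_derivedSeries_fstar [Finite G] :
    (⨅ n : ℕ, (derivedSeries ↥(generalizedFittingSubgroup G) n).map
      (generalizedFittingSubgroup G).subtype) = layer G := by
  obtain ⟨m, hm⟩ := exists_derivedSeries_fstar_le_layer (G := G)
  refine le_antisymm ((iInf_le _ m).trans hm) (le_iInf fun n => ?_)
  induction n with
  | zero =>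
    rw [derivedSeries_zero, ← MonoidHom.range_eq_map, range_subtype]
    exact le_sup_left
  | succ n ih =>
    rw [derivedSeries_succ, map_commutator, ← Components.layer_commutator_self (G := G)]
    exact commutator_mono ih ih

/-- `E(G) = C_{E(G)}(U) [E(G), U]`. -/
theorem layer_le_centralizer_sup_commutator [Finite G] (U : Subgroup G) :
    layer G ≤ (layer G ⊓ centralizer (U : Set G)) ⊔ ⁅layer G, U⁆ := by
  classical
  haveI := Components.layer_normal (G := G)
  set N := ⁅layer G, U⁆ with hN
  have hNE : layer G ≤ normalizer (N : Set G) := Subgroup.normalizer_commutator_ge_left _ _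
  refine Components.layer_le_iff.2 fun L hL => ?_
  by_cases hc : L ≤ centralizer (U : Set G)
  · exact (le_inf (Components.isComponent_le_layer hL) hc).trans le_sup_left
  refine le_trans ?_ le_sup_right
  obtain ⟨l₀, hl₀, u, hu, hne⟩ : ∃ l ∈ L, ∃ u ∈ U, u * l ≠ l * u := by
    by_contra hcon
    push Not at hcon
    exact hc fun l hl => mem_centralizer_iff.2 fun u hu => hcon l hl u hu
  have hLE := Components.isComponent_le_layer hL
  have hmem : ∀ l ∈ L, l * (u * l⁻¹ * u⁻¹) ∈ N := fun l hl => by
    have := commutator_mem_commutator (hLE hl) hu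
    rw [commutatorElement_def] at this
    simpa [mul_assoc, hN] using this
  set L' := L.map (MulAut.conj u).toMonoidHom with hL'
  by_cases hLu : L' = L
  · -- `L` is normalized by `u`
    haveI : (N.subgroupOf L).Normal := normal_subgroupOf_of_le_normalizer (hLE.trans hNE)
    rcases Components.quasisimple_normal_eq_top_or_le_center hL.2 (N.subgroupOf L) with h | h
    · exact subgroupOf_eq_top.1 h
    exfalso
    apply hne
    have hinv : ∀ l ∈ L, u * l * u⁻¹ ∈ L := fun l hl => hLu.le ⟨l, hl, rfl⟩
    -- conjugation by `u` is trivial modulo the centre, hence trivial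
    have hz : ∀ l : ↥L, ∀ m : ↥L, (m : G) * ((u * (l : G) * u⁻¹) * (l : G)⁻¹) =
        ((u * (l : G) * u⁻¹) * (l : G)⁻¹) * m := by
      intro l m
      have h2 : (⟨(l : G) * (u * (l : G)⁻¹ * u⁻¹), mul_mem l.2 (hinv _ (inv_mem l.2))⟩ : ↥L)
          ∈ Subgroup.center ↥L := h (hmem l l.2)
      have h3 : (⟨(u * (l : G) * u⁻¹) * (l : G)⁻¹, mul_mem (hinv _ l.2) (inv_mem l.2)⟩ : ↥L)
          ∈ Subgroup.center ↥L := by
        have := inv_mem h2
        convert this using 1
        apply Subtype.ext
        simp [mul_assoc]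
      exact congrArg Subtype.val (mem_center_iff.1 h3 m)
    have hperf := Components.isComponent_commutator_self hL
    have key : ∀ l ∈ (⁅L, L⁆ : Subgroup G), u * l * u⁻¹ = l := by
      intro l hl
      suffices ⁅L, L⁆ ≤ centralizer ({u} : Set G) by
        rw [← mem_centralizer_singleton_iff.1 (this hl), mul_inv_cancel_right]
      refine commutator_le.2 fun a ha b hb => mem_centralizer_singleton_iff.2 ?_
      have hca : ∀ g ∈ L, Commute g ((u * a * u⁻¹) * a⁻¹) := fun g hg => hz ⟨a, ha⟩ ⟨g, hg⟩
      have hcb : ∀ g ∈ L, Commute g ((u * b * u⁻¹) * b⁻¹) := fun g hg => hz ⟨b, hb⟩ ⟨g, hg⟩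
      have hcaL : (u * a * u⁻¹) * a⁻¹ ∈ L := mul_mem (hinv a ha) (inv_mem ha)
      have hab : ⁅u * a * u⁻¹, u * b * u⁻¹⁆ = ⁅a, b⁆ := by
        obtain ⟨c, hc⟩ : ∃ c, c = (u * a * u⁻¹) * a⁻¹ := ⟨_, rfl⟩
        obtain ⟨d, hd⟩ : ∃ d, d = (u * b * u⁻¹) * b⁻¹ := ⟨_, rfl⟩
        rw [← hc] at hca hcaL
        rw [← hd] at hcb
        have ea : u * a * u⁻¹ = c * a := by rw [hc, inv_mul_cancel_right]
        have eb : u * b * u⁻¹ = d * b := by rw [hd, inv_mul_cancel_right]
        rw [ea, eb]
        simp only [commutatorElement_def, mul_inv_rev]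
        have e1 := (hcb c hcaL).eq
        calc c * a * (d * b) * (a⁻¹ * c⁻¹) * (b⁻¹ * d⁻¹)
            = c * (a * d) * b * a⁻¹ * c⁻¹ * b⁻¹ * d⁻¹ := by group
          _ = (c * d) * (a * b * a⁻¹) * c⁻¹ * b⁻¹ * d⁻¹ := by rw [(hcb a ha).eq]; group
          _ = (d * c) * ((a * b * a⁻¹) * c⁻¹) * b⁻¹ * d⁻¹ := by rw [e1]; group
          _ = (d * c) * (c⁻¹ * (a * b * a⁻¹)) * b⁻¹ * d⁻¹ := by
              rw [(hca _ (mul_mem (mul_mem ha hb) (inv_mem ha))).inv_right.eq]
          _ = d * (a * b * a⁻¹ * b⁻¹) * d⁻¹ := by group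
          _ = a * b * a⁻¹ * b⁻¹ := by
              rw [← (hcb _ (mul_mem (mul_mem (mul_mem ha hb) (inv_mem ha)) (inv_mem hb))).eq,
                mul_inv_cancel_right]
      have e2 : u * ⁅a, b⁆ * u⁻¹ = ⁅a, b⁆ := by
        refine Eq.trans ?_ hab
        simp only [commutatorElement_def]
        group
      calc ⁅a, b⁆ * u = u * ⁅a, b⁆ * u⁻¹ * u := by rw [e2]
        _ = u * ⁅a, b⁆ := by group
    have := key l₀ (hperf.ge hl₀)
    calc u * l₀ = u * l₀ * u⁻¹ * u := by group
      _ = l₀ * u := by rw [this]
  · -- `L` is moved by `u`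
    have hcomm := Components.isComponent_commutator_eq_bot hL (Components.isComponent_conj hL u)
      (Ne.symm hLu)
    rw [← Components.isComponent_commutator_self hL, commutator_le]
    intro a ha b hb
    rw [commutatorElement_def]
    have hca : a * (u * b * u⁻¹) = (u * b * u⁻¹) * a :=
      (mem_centralizer_iff.1 ((commutator_eq_bot_iff_le_centralizer).1 hcomm ha) _ ⟨b, hb, rfl⟩).symm
    have h1 := hmem b hb
    have : a * b * a⁻¹ * b⁻¹ =
        (a * (b * (u * b⁻¹ * u⁻¹)) * a⁻¹) * (b * (u * b⁻¹ * u⁻¹))⁻¹ := by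
      calc a * b * a⁻¹ * b⁻¹
          = a * (b * (u * b⁻¹ * u⁻¹)) * ((u * b * u⁻¹) * a⁻¹) * b⁻¹ := by group
        _ = a * (b * (u * b⁻¹ * u⁻¹)) * (a⁻¹ * (u * b * u⁻¹)) * b⁻¹ := by
            rw [(Commute.inv_left (hca : Commute a (u * b * u⁻¹))).eq]
        _ = _ := by group
    rw [this]
    exact mul_mem ((mem_normalizer_iff.1 (hNE (hLE ha)) _).1 h1) (inv_mem h1)

/-- `|G| ≤ |F*(G)|!`. -/
theorem card_le_factorial_fstar [Finite G] :
    Nat.card G ≤ Nat.factorial (Nat.card ↥(generalizedFittingSubgroup G)) := by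
  classical
  set F := generalizedFittingSubgroup G with hF
  haveI : F.Normal := Components.generalizedFittingSubgroup_normal
  let φ : G →* MulAut ↥F := MulAut.conjNormal
  have hker : φ.ker ≤ F := by
    intro g hg
    refine Components.centralizer_generalizedFittingSubgroup_le (mem_centralizer_iff.2 fun f hf => ?_)
    have := congrArg (fun e => ((e ⟨f, hf⟩ : ↥F) : G)) (MonoidHom.mem_ker.1 hg)
    simp only [φ, MulAut.conjNormal_apply, MulAut.one_apply] at this
    nth_rw 1 [← this]
    group
  have h1 : Nat.card (MulAut ↥F) ≤ Nat.card (Equiv.Perm {x : ↥F // x ≠ 1}) := by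
    refine Nat.card_le_card_of_injective
      (fun e : MulAut ↥F => (Equiv.Perm.subtypePerm e.toEquiv (p := fun x => x ≠ 1) fun x => by
        simp [map_eq_one_iff e e.injective] : Equiv.Perm {x : ↥F // x ≠ 1})) ?_
    intro e₁ e₂ h
    ext x
    by_cases hx : x = 1
    · simp [hx]
    · exact congrArg (fun (x : ↥F) => (x : G)) (congrArg Subtype.val (Equiv.congr_fun h ⟨x, hx⟩))
  haveI := Fintype.ofFinite ↥F
  have h2 : Nat.card (Equiv.Perm {x : ↥F // x ≠ 1}) = Nat.factorial (Nat.card ↥F - 1) := by
    rw [Nat.card_perm, Nat.card_eq_fintype_card, Nat.card_eq_fintype_card,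
      Fintype.card_subtype_compl, Fintype.card_subtype_eq]
  calc Nat.card G = Nat.card φ.ker * Nat.card φ.range := by
        rw [← Subgroup.card_mul_index φ.ker, Subgroup.index_ker]
    _ ≤ Nat.card ↥F * Nat.factorial (Nat.card ↥F - 1) := by
        refine Nat.mul_le_mul (card_le_of_le hker) ?_
        rw [← h2]
        exact (Subgroup.card_le_card_group _).trans h1
    _ = _ := Nat.mul_factorial_pred Nat.card_pos.ne'

end Cfsg.Agent.Lib.FStar
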